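import Groth.Agent.S12565
import Mathlib.Combinatorics.Additive.CauchyDavenport
import Mathlib.FieldTheory.RatFunc.Basic

/-!
# Hopf's lemma in a field over an algebraically closed field
-/

set_option autoImplicit false
set_option linter.unusedSectionVars false
set_option linter.style.haveILetI false

open scoped Pointwise

namespace Groth.Agent.HopfVar

variable {k L : Type*} [Field k] [Field L] [Algebra k L] (O : ValuationSubring L)
  (hk : ∀ a, algebraMap k L a ∈ O)
  (hres : ∀ x ∈ O, ∃ a : k, x - algebraMap k L a ∈ O.nonunits)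

include hk in
theorem val_const_le (c : k) : O.valuation (algebraMap k L c) ≤ 1 :=
  (O.valuation_le_one_iff _).2 (hk c)

/-- The elements of value less than that of `x`. -/
def below (x : L) (hx : x ≠ 0) : Submodule k L where
  carrier := {y | O.valuation y < O.valuation x}
  zero_mem' := by
    show O.valuation 0 < O.valuation x
    rw [map_zero]
    exact zero_lt_iff.2 (by simpa using hx)
  add_mem' := fun {a b} ha hb => lt_of_le_of_lt (O.valuation.map_add a b) (max_lt ha hb)
  smul_mem' := fun c y hy => by
    show O.valuation (c • y) < O.valuation x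
    rw [Algebra.smul_def, map_mul]
    exact lt_of_le_of_lt (mul_le_of_le_one_left' (val_const_le O hk c)) hy

/-- The values of nonzero elements of `V`. -/
def HasVal (V : Submodule k L) (γ : (O.ValueGroup)ˣ) : Prop := ∃ x ∈ V, O.valuation x = γ

include hk in
theorem card_le_finrank : ∀ (S : Finset (O.ValueGroup)ˣ) (U : Submodule k L) [FiniteDimensional k U],
    (∀ γ ∈ S, HasVal O U γ) → S.card ≤ Module.finrank k U := by
  classical
  intro S
  induction S using Finset.induction_on_max with
  | empty => intros; simp
  | insert a S hlt ih =>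
    intro U _ hS
    have ha : a ∉ S := fun h => lt_irrefl a (hlt a h)
    obtain ⟨x, hx, hxa⟩ := hS a (Finset.mem_insert_self a S)
    have hx0 : x ≠ 0 := fun h => a.ne_zero (by rw [← hxa, h, map_zero])
    let B := below O hk x hx0
    haveI : FiniteDimensional k ↥(U ⊓ B) := Submodule.finiteDimensional_of_le inf_le_left
    have h1 := ih (U ⊓ B) fun γ hγ => by
      obtain ⟨y, hy, hyγ⟩ := hS γ (Finset.mem_insert_of_mem hγ)
      refine ⟨y, ⟨hy, ?_⟩, hyγ⟩
      show O.valuation y < O.valuation x
      rw [hyγ, hxa]
      exact_mod_cast hlt γ hγ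
    have h2 : U ⊓ B < U := lt_of_le_of_ne inf_le_left fun h =>
      lt_irrefl (O.valuation x) (h.symm ▸ hx : x ∈ U ⊓ B).2
    have := Submodule.finrank_lt_finrank_of_lt h2
    rw [Finset.card_insert_of_notMem ha]
    omega

include hk hres in
theorem exists_valSet (V : Submodule k L) [FiniteDimensional k V] :
    ∃ S : Finset (O.ValueGroup)ˣ, (∀ γ ∈ S, HasVal O V γ) ∧ Module.finrank k V ≤ S.card := by
  classical
  obtain ⟨d, hd⟩ : ∃ d, Module.finrank k V = d := ⟨_, rfl⟩
  induction d using Nat.strong_induction_on generalizing V with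
  | _ d ih =>
    by_cases hV : V = ⊥
    · subst hV
      exact ⟨∅, by simp, by simp⟩
    -- an element of largest value
    let cards : Set ℕ := {n | ∃ S : Finset (O.ValueGroup)ˣ, (∀ γ ∈ S, HasVal O V γ) ∧ S.card = n}
    have hbdd : BddAbove cards := ⟨Module.finrank k V, by
      rintro _ ⟨S, hS, rfl⟩
      exact card_le_finrank O hk S V hS⟩
    obtain ⟨S₀, hS₀, hcard⟩ := Nat.sSup_mem (s := cards) ⟨0, ∅, by simp, by simp⟩ hbdd
    have hall : ∀ γ, HasVal O V γ → γ ∈ S₀ := by
      intro γ hγ
      by_contra h
      have : (insert γ S₀).card ≤ sSup cards := le_csSup hbdd ⟨_, fun δ hδ => by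
        rcases Finset.mem_insert.1 hδ with rfl | hδ
        exacts [hγ, hS₀ δ hδ], rfl⟩
      rw [Finset.card_insert_of_notMem h, hcard] at this
      omega
    obtain ⟨z, hz, hz0⟩ := Submodule.exists_mem_ne_zero_of_ne_bot hV
    have hne : S₀.Nonempty := ⟨Units.mk0 (O.valuation z) (by simpa using hz0), hall _ ⟨z, hz, rfl⟩⟩
    obtain ⟨x, hx, hxm⟩ := hS₀ _ (S₀.max'_mem hne)
    have hx0 : x ≠ 0 := fun h => (S₀.max' hne).ne_zero (by rw [← hxm, h, map_zero])
    let B := below O hk x hx0
    haveI : FiniteDimensional k ↥(V ⊓ B) := Submodule.finiteDimensional_of_le inf_le_left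
    have h2 : V ⊓ B < V := lt_of_le_of_ne inf_le_left fun h =>
      lt_irrefl (O.valuation x) (h.symm ▸ hx : x ∈ V ⊓ B).2
    obtain ⟨S, hS, hc⟩ := ih _ (hd ▸ Submodule.finrank_lt_finrank_of_lt h2) (V ⊓ B) rfl
    refine ⟨insert (S₀.max' hne) S, fun γ hγ => ?_, ?_⟩
    · obtain rfl | hγ := Finset.mem_insert.1 hγ
      · exact ⟨x, hx, hxm⟩
      · obtain ⟨y, hy, hyγ⟩ := hS γ hγ
        exact ⟨y, hy.1, hyγ⟩
    have hnot : S₀.max' hne ∉ S := fun h => by
      obtain ⟨y, hy, hyγ⟩ := hS _ h
      exact (show O.valuation y < O.valuation x from hy.2).ne (hyγ.trans hxm.symm)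
    have hsup : V ≤ (V ⊓ B) ⊔ Submodule.span k {x} := fun y hy => by
      have hle : O.valuation y ≤ O.valuation x := by
        by_cases hy0 : y = 0
        · rw [hy0, map_zero]; exact zero_le
        rw [hxm]
        have := S₀.le_max' _ (hall (Units.mk0 (O.valuation y) (by simpa using hy0)) ⟨y, hy, rfl⟩)
        exact_mod_cast this
      have hq : y / x ∈ O := (O.valuation_le_one_iff _).1 (by
        rw [map_div₀]
        exact div_le_one_of_le₀ hle zero_le)
      obtain ⟨c, hc⟩ := hres _ hq
      have hvx : (0 : O.ValueGroup) < O.valuation x := zero_lt_iff.2 (by simpa using hx0)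
      have e : y = (y - c • x) + c • x := (sub_add_cancel _ _).symm
      rw [e]
      refine Submodule.add_mem_sup ⟨V.sub_mem hy (V.smul_mem c hx), ?_⟩
        (Submodule.mem_span_singleton.2 ⟨c, rfl⟩)
      show O.valuation (y - c • x) < O.valuation x
      have e2 : y - c • x = (y / x - algebraMap k L c) * x := by
        rw [Algebra.smul_def, sub_mul, div_mul_cancel₀ y hx0]
      rw [e2, map_mul]
      exact mul_lt_of_lt_one_left hvx hc
    have h3 := (Submodule.finrank_mono hsup).trans (Submodule.finrank_add_le_finrank_add_finrank _ _)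
    rw [finrank_span_singleton hx0] at h3
    rw [Finset.card_insert_of_notMem hnot]
    omega

include hk hres in
theorem finrank_add_le_of_valuation (V W : Submodule k L) [FiniteDimensional k V] [FiniteDimensional k W]
    (hV : V ≠ ⊥) (hW : W ≠ ⊥) (P : Submodule k L) [FiniteDimensional k P] (hP : V * W ≤ P) :
    Module.finrank k V + Module.finrank k W ≤ Module.finrank k P + 1 := by
  classical
  obtain ⟨S, hS, hSc⟩ := exists_valSet O hk hres V
  obtain ⟨T, hT, hTc⟩ := exists_valSet O hk hres W
  have hV' : Module.finrank k V ≠ 0 := fun h => hV (Submodule.finrank_eq_zero.1 h)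
  have hW' : Module.finrank k W ≠ 0 := fun h => hW (Submodule.finrank_eq_zero.1 h)
  have h1 := cauchy_davenport_mul_of_linearOrder_isCancelMul (s := S) (t := T)
    (Finset.card_pos.1 (by omega)) (Finset.card_pos.1 (by omega))
  have h2 := card_le_finrank O hk (S * T) P fun n hn => by
    obtain ⟨a, ha, b, hb, rfl⟩ := Finset.mem_mul.1 hn
    obtain ⟨x, hx, hxa⟩ := hS a ha
    obtain ⟨y, hy, hyb⟩ := hT b hb
    exact ⟨x * y, hP (Submodule.mul_mem_mul hx hy), by rw [map_mul, hxa, hyb]; rfl⟩
  omega

/-- Hopf's lemma in a field over an algebraically closed field. -/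
theorem finrank_add_le {k L : Type*} [Field k] [IsAlgClosed k] [Field L] [Algebra k L]
    (V W : Submodule k L) [FiniteDimensional k V] [FiniteDimensional k W]
    (hV : V ≠ ⊥) (hW : W ≠ ⊥) (P : Submodule k L) [FiniteDimensional k P] (hP : V * W ≤ P) :
    Module.finrank k V + Module.finrank k W ≤ Module.finrank k P + 1 := by
  obtain ⟨O, hk, -, hres, -⟩ := S12565.exists_valuationSubring_residue (⊥ : Subalgebra k L)
    (Algebra.botEquiv k L).toAlgHom
  exact finrank_add_le_of_valuation O hk hres V W hV hW P hP

variable {K : Type*} [Field K] [Algebra k K] {ι κ : Type*}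

open Polynomial in
/-- A functional on coordinates which is injective. -/
theorem exists_encode (A : Type*) [AddCommGroup A] [Module K A] [Module.Finite K A] :
    ∃ φ : A →ₗ[K] RatFunc K, Function.Injective φ := by
  classical
  let b := Module.finBasis K A
  let f : A →ₗ[K] Polynomial K :=
    (Finsupp.linearCombination K fun i : Fin (Module.finrank K A) => (X : K[X]) ^ i.1) ∘ₗ b.repr.toLinearMap
  have hli : LinearIndependent K fun i : Fin (Module.finrank K A) => (X : K[X]) ^ i.1 := by
    have h := (Polynomial.basisMonomials K).linearIndependent.comp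
      (fun i : Fin (Module.finrank K A) => i.1) Fin.val_injective
    simpa [Function.comp_def, Polynomial.monomial_one_right_eq_X_pow] using h
  exact ⟨(Algebra.linearMap K[X] (RatFunc K)).restrictScalars K ∘ₗ f,
    (IsFractionRing.injective K[X] (RatFunc K)).comp
      ((linearIndependent_iff_injective_finsuppLinearCombination.1 hli).comp b.repr.injective)⟩

open TensorProduct in
/-- Hopf's lemma for subspaces of vector spaces over an extension field. -/
theorem finrank_add_le_tensor [IsAlgClosed k] (A B T : Type*) [AddCommGroup A] [Module K A] [Module k A]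
    [IsScalarTower k K A] [Module.Finite K A] [AddCommGroup B] [Module K B] [Module k B]
    [IsScalarTower k K B] [Module.Finite K B] [AddCommGroup T] [Module K T] [Module k T]
    [IsScalarTower k K T] (e : T ≃ₗ[K] A ⊗[K] B)
    (V : Submodule k A) (W : Submodule k B) [FiniteDimensional k V] [FiniteDimensional k W]
    (hV : V ≠ ⊥) (hW : W ≠ ⊥) (P : Submodule k T) [FiniteDimensional k P]
    (hP : ∀ v ∈ V, ∀ w ∈ W, e.symm (v ⊗ₜ w) ∈ P) :
    Module.finrank k V + Module.finrank k W ≤ Module.finrank k P + 1 := by
  obtain ⟨φ, hφ⟩ := exists_encode (K := K) A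
  obtain ⟨ψ, hψ⟩ := exists_encode (K := K) B
  let μ : T →ₗ[K] RatFunc K := TensorProduct.lift (LinearMap.mk₂ K (fun a b => φ a * ψ b)
    (fun a a' b => by simp [add_mul]) (fun c a b => by simp [Algebra.smul_def, mul_assoc])
    (fun a b b' => by simp [mul_add]) (fun c a b => by simp [Algebra.smul_def, mul_left_comm])) ∘ₗ e.toLinearMap
  let V' : Submodule k (RatFunc K) := V.map (φ.restrictScalars k)
  let W' : Submodule k (RatFunc K) := W.map (ψ.restrictScalars k)
  let P' : Submodule k (RatFunc K) := P.map (μ.restrictScalars k)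
  have eV : Module.finrank k V' = Module.finrank k V := (Submodule.equivMapOfInjective (φ.restrictScalars k) hφ V).finrank_eq.symm
  have eW : Module.finrank k W' = Module.finrank k W := (Submodule.equivMapOfInjective (ψ.restrictScalars k) hψ W).finrank_eq.symm
  have h := finrank_add_le V' W' (fun h0 => hV (by
      rw [← Submodule.map_bot (φ.restrictScalars k)] at h0
      exact Submodule.map_injective_of_injective (f := φ.restrictScalars k) hφ h0))
    (fun h0 => hW (by
      rw [← Submodule.map_bot (ψ.restrictScalars k)] at h0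
      exact Submodule.map_injective_of_injective (f := ψ.restrictScalars k) hψ h0))
    P' (Submodule.mul_le.2 (by
      rintro _ ⟨v, hv, rfl⟩ _ ⟨w, hw, rfl⟩
      exact ⟨_, hP v hv w hw, by simp [μ]⟩))
  rw [eV, eW] at h
  have : Module.finrank k P' ≤ Module.finrank k P := Submodule.finrank_map_le _ _
  omega

end Groth.Agent.HopfVar
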